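import Mathlib
import Cfsg.Agent.AutPSL.Two
import Cfsg.Agent.AutPSL.Structure
import Cfsg.Agent.Classical.PSLKlein
import Cfsg.Agent.Classical.SL2Sylow
import Cfsg.Agent.Classical.SmallPSL

/-!
PSL(2, q) with abelian Sylow 2-subgroups: automorphisms of 2-power order fixing a Klein four group
pointwise are induced by that four group.
-/

set_option autoImplicit false

namespace Cfsg.Agent.JankoRee

open Matrix
open Cfsg.Agent.AutPSL
open Cfsg.Agent.Classical

variable {F : Type*} [Field F] [Fintype F]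

local notation "PG" => Matrix.ProjectiveSpecialLinearGroup (Fin 2) F

theorem two_ne (hFo : Odd (Fintype.card F)) : (2 : F) ≠ 0 :=
  Cfsg.Agent.Classical.two_ne_zero_of_odd hFo

theorem mod_eight (hFo : Odd (Fintype.card F))
    (hab : ∀ Q : Subgroup PG, IsPGroup 2 Q → ∀ a ∈ Q, ∀ b ∈ Q, a * b = b * a) :
    Fintype.card F % 8 = 3 ∨ Fintype.card F % 8 = 5 := by
  have h2 := two_ne hFo
  by_contra hne
  have hr : Fintype.card F % 8 = 1 ∨ Fintype.card F % 8 = 7 := by
    obtain ⟨k, hk⟩ := hFo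
    omega
  have h8 := (PKlein.card_pg_two_part h2 rfl).1 hr
  obtain ⟨V, hV⟩ := PKlein.exists_klein (F := F) h2
  have hVp : IsPGroup 2 V := IsPGroup.of_card (n := 2) (by rw [IsKleinFour.card_four]; rfl)
  obtain ⟨Q, hQ⟩ := hVp.exists_le_sylow
  have hle : (Q : Subgroup PG) ≤ V := fun x hx =>
    PKlein.centralizer_klein h2 V
      (Subgroup.mem_centralizer_iff.2 fun v hv => (hab _ Q.2 _ (hQ hv) _ hx))
  have hd : 8 ∣ Nat.card (Q : Subgroup PG) := by
    have := Q.pow_dvd_card_of_pow_dvd_card (n := 3) h8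
    exact this
  have := hd.trans (Subgroup.card_dvd_of_le hle)
  rw [IsKleinFour.card_four] at this
  omega

/-- A field automorphism of 2-power order is trivial. -/
theorem ringEquiv_eq_one (hq : Fintype.card F % 8 = 3 ∨ Fintype.card F % 8 = 5)
    (σ : F ≃+* F) (j : ℕ) (hσ : σ ^ 2 ^ j = 1) : σ = 1 := by
  induction j with
  | zero => simpa using hσ
  | succ j ih =>
    apply ih
    set τ := σ ^ 2 ^ j with hτdef
    have hinv : ∀ x, τ (τ x) = x := fun x => by
      have : τ * τ = 1 := by rw [hτdef, ← pow_add, ← two_mul, ← pow_succ', hσ]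
      exact RingEquiv.congr_fun this x
    by_contra hne
    have hodd : Odd (Fintype.card F) := Nat.odd_iff.2 (by omega)
    have h2 := two_ne hodd
    obtain ⟨b, hb⟩ : ∃ b, τ b ≠ b := by
      by_contra h
      push_neg at h
      exact hne (RingEquiv.ext h)
    set a := b - τ b with hadef
    have ha : a ≠ 0 := sub_ne_zero.2 (Ne.symm hb)
    have hta : τ a = -a := by rw [hadef, map_sub, hinv]; ring
    let K := {x : F // τ x = x}
    let f : K × K → F := fun p => (p.1 : F) + (p.2 : F) * a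
    have hf : Function.Bijective f := by
      constructor
      · rintro ⟨⟨x, hx⟩, ⟨y, hy⟩⟩ ⟨⟨x', hx'⟩, ⟨y', hy'⟩⟩ h
        have h' := congrArg τ h
        simp only [f, map_add, map_mul, hx, hy, hx', hy', hta] at h'
        simp only [f] at h
        have e1 : x = x' := mul_left_cancel₀ h2 (by linear_combination h + h')
        subst e1
        have e2 : y = y' := mul_right_cancel₀ ha (add_left_cancel h)
        subst e2
        rfl
      · intro x
        refine ⟨(⟨(x + τ x) / 2, ?_⟩, ⟨(x - τ x) / 2 / a, ?_⟩), ?_⟩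
        · rw [map_div₀, map_add, hinv, map_ofNat]; ring
        · rw [map_div₀, map_div₀, map_sub, hinv, map_ofNat, hta]; field_simp; ring
        · simp only [f]; field_simp; ring
    have hc := Nat.card_eq_of_bijective f hf
    rw [Nat.card_prod, Nat.card_eq_fintype_card (α := F)] at hc
    have : (Nat.card K * Nat.card K) % 8 = 3 ∨ (Nat.card K * Nat.card K) % 8 = 5 := by rw [hc]; exact hq
    rw [Nat.mul_mod] at this
    have hlt := Nat.mod_lt (Nat.card K) (show 8 > 0 by norm_num)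
    generalize Nat.card K % 8 = r at this hlt
    interval_cases r <;> omega

/-- A matrix commuting with two anticommuting traceless square roots of minus one is scalar. -/
theorem commutant {a b M : Matrix (Fin 2) (Fin 2) F} (h2 : (2 : F) ≠ 0) (ha : a * a = -1) (hb : b * b = -1)
    (hab : a * b = -(b * a)) (a11 : a 1 1 = -a 0 0) (b11 : b 1 1 = -b 0 0)
    (hMa : M * a = a * M) (hMb : M * b = b * M) :
    ∃ c : F, M = c • 1 := by
  have A1 := congrFun (congrFun hMa 0) 0
  have A2 := congrFun (congrFun hMa 0) 1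
  have A3 := congrFun (congrFun hMa 1) 0
  have B1 := congrFun (congrFun hMb 0) 0
  have B2 := congrFun (congrFun hMb 0) 1
  have B3 := congrFun (congrFun hMb 1) 0
  have C00 := congrFun (congrFun hab 0) 0
  have Q := congrFun (congrFun ha 0) 0
  have R' := congrFun (congrFun hb 0) 0
  simp [Matrix.mul_apply, Fin.sum_univ_two, a11, b11] at A1 A2 A3 B1 B2 B3 C00 Q R'
  set S := (M 0 0 - M 1 1) * a 0 0 + M 1 0 * a 0 1 + M 0 1 * a 1 0 with hS
  set R := (M 0 0 - M 1 1) * b 0 0 + M 1 0 * b 0 1 + M 0 1 * b 1 0 with hR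
  have ea : 2 * M 0 1 = -(a 0 1 * S) := by grind
  have fa : 2 * M 1 0 = -(a 1 0 * S) := by grind
  have da : 2 * (M 0 0 - M 1 1) = -(2 * a 0 0 * S) := by grind
  have eb : 2 * M 0 1 = -(b 0 1 * R) := by grind
  have fb : 2 * M 1 0 = -(b 1 0 * R) := by grind
  have db : 2 * (M 0 0 - M 1 1) = -(2 * b 0 0 * R) := by grind
  have hR0 : R = 0 := by
    have : (2 : F) * R = 0 := by
      linear_combination 2 * hR + b 0 0 * da + b 0 1 * fa + b 1 0 * ea - S * C00
    exact (mul_eq_zero.1 this).resolve_left h2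
  have k01 : M 0 1 = 0 := by
    have : (2 : F) * M 0 1 = 0 := by rw [eb, hR0]; ring
    exact (mul_eq_zero.1 this).resolve_left h2
  have k10 : M 1 0 = 0 := by
    have : (2 : F) * M 1 0 = 0 := by rw [fb, hR0]; ring
    exact (mul_eq_zero.1 this).resolve_left h2
  have k11 : M 1 1 = M 0 0 := by
    have : (2 : F) * (M 0 0 - M 1 1) = 0 := by rw [db, hR0]; ring
    exact (sub_eq_zero.1 ((mul_eq_zero.1 this).resolve_left h2)).symm
  refine ⟨M 0 0, ?_⟩
  ext i j
  fin_cases i <;> fin_cases j <;> simp [k01, k10, k11]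

/-- Automorphisms of 2-power order fixing a Klein four group pointwise. -/
theorem fixes_klein (hq : Fintype.card F % 8 = 3 ∨ Fintype.card F % 8 = 5) (V : Subgroup PG) [IsKleinFour V]
    (β : MulAut PG) (j : ℕ) (hβ : β ^ 2 ^ j = 1) (hfix : ∀ v ∈ V, β v = v) :
    ∃ v ∈ V, β = MulAut.conj v := by
  classical
  have h2 := two_ne (Nat.odd_iff.2 (by omega) : Odd (Fintype.card F))
  obtain ⟨p, hp⟩ := CharP.exists F
  haveI : Fact p.Prime := ⟨CharP.char_is_prime F p⟩
  obtain ⟨g, σ, hdec⟩ := exists_decomp_two p β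
  have hpow : ∀ n : ℕ, ∃ g' : GL (Fin 2) F, β ^ n = conjA g' * fieldA (σ ^ n) := by
    intro n
    induction n with
    | zero => exact ⟨1, by simp⟩
    | succ n ih =>
      obtain ⟨g', hg'⟩ := ih
      refine ⟨g' * fieldGL (σ ^ n) g, ?_⟩
      rw [pow_succ, hg', hdec, map_mul, mul_assoc (conjA g'), ← mul_assoc (fieldA (σ ^ n)),
        conjA_field, pow_succ σ n, map_mul]
      simp only [mul_assoc]
  obtain ⟨g', hg'⟩ := hpow (2 ^ j)
  have hσ : σ = 1 := ringEquiv_eq_one hq σ j (eq_one_of_conj_field p le_rfl (hg'.symm.trans hβ)).1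
  rw [hσ, map_one, mul_one] at hdec
  obtain ⟨x, y, hx, hy, x1, y1, hxy⟩ := KleinN.exists_basis V
  obtain ⟨a, rfl⟩ := Cfsg.Agent.SL2Class.proj_surjective x
  obtain ⟨b, rfl⟩ := Cfsg.Agent.SL2Class.proj_surjective y
  obtain ⟨ha, hb, hab⟩ := PKlein.lifts_of_mem h2 V hx hy x1 y1 hxy (g := a) (h := b) rfl rfl
  have sgn : ∀ s : SLn 2 F, Cfsg.Agent.SL2Class.proj s ∈ V →
      conjSL g s = s ∨ conjSL g s = -s := by
    intro s hs
    have := hfix _ hs
    rw [hdec] at this
    exact (Cfsg.Agent.SL2Class.proj_eq_iff.1 this.symm)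
  set A : Matrix (Fin 2) (Fin 2) F := (a : Matrix (Fin 2) (Fin 2) F) with hA
  set B : Matrix (Fin 2) (Fin 2) F := (b : Matrix (Fin 2) (Fin 2) F) with hB
  set Γ : Matrix (Fin 2) (Fin 2) F := (g : Matrix (Fin 2) (Fin 2) F) with hΓ
  have hA2 : A * A = -1 := by
    have := congrArg Subtype.val ha
    simpa using this
  have hB2 : B * B = -1 := by
    have := congrArg Subtype.val hb
    simpa using this
  have hAB : A * B = -(B * A) := by
    have := congrArg Subtype.val hab
    simpa using this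
  have mat : ∀ {s : SLn 2 F} {M : Matrix (Fin 2) (Fin 2) F},
      (conjSL g s : Matrix (Fin 2) (Fin 2) F) = M → Γ * (s : Matrix (Fin 2) (Fin 2) F) = M * Γ := by
    intro s M h
    rw [← h, conjSL_coe, Matrix.mul_assoc _ _ Γ, hΓ, Units.inv_mul, Matrix.mul_one]
  have hVmul : ∀ {u v : SLn 2 F}, Cfsg.Agent.SL2Class.proj u ∈ V → Cfsg.Agent.SL2Class.proj v ∈ V →
      Cfsg.Agent.SL2Class.proj (u * v) ∈ V := fun h h' => by rw [map_mul]; exact V.mul_mem h h'
  obtain ⟨c, hc, hca, hcb⟩ : ∃ c : SLn 2 F, Cfsg.Agent.SL2Class.proj c ∈ V ∧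
      ((c : Matrix (Fin 2) (Fin 2) F) * Γ) * A = A * ((c : Matrix (Fin 2) (Fin 2) F) * Γ) ∧
      ((c : Matrix (Fin 2) (Fin 2) F) * Γ) * B = B * ((c : Matrix (Fin 2) (Fin 2) F) * Γ) := by
    rcases sgn a hx with ea | ea <;> rcases sgn b hy with eb | eb
    · refine ⟨1, by rw [map_one]; exact V.one_mem, ?_, ?_⟩
      · simpa using mat (congrArg Subtype.val ea)
      · simpa using mat (congrArg Subtype.val eb)
    · have e1 : Γ * A = A * Γ := mat (congrArg Subtype.val ea)
      have e2 : Γ * B = -(B * Γ) := by simpa using mat (congrArg Subtype.val eb)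
      refine ⟨a, hx, ?_, ?_⟩
      · rw [← hA, mul_assoc, e1]
      · rw [← hA, mul_assoc, e2, mul_neg, ← mul_assoc, hAB, neg_mul, neg_neg, mul_assoc]
    · have e1 : Γ * A = -(A * Γ) := by simpa using mat (congrArg Subtype.val ea)
      have e2 : Γ * B = B * Γ := mat (congrArg Subtype.val eb)
      refine ⟨b, hy, ?_, ?_⟩
      · rw [← hB, mul_assoc, e1, mul_neg, ← mul_assoc, ← neg_mul, ← hAB, mul_assoc]
      · rw [← hB, mul_assoc, e2]
    · have e1 : Γ * A = -(A * Γ) := by simpa using mat (congrArg Subtype.val ea)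
      have e2 : Γ * B = -(B * Γ) := by simpa using mat (congrArg Subtype.val eb)
      refine ⟨a * b, hVmul hx hy, ?_, ?_⟩
      · rw [Matrix.SpecialLinearGroup.coe_mul, ← hA, ← hB, mul_assoc (A * B), e1, mul_neg, ← mul_assoc,
          mul_assoc A B A, ← neg_mul, ← mul_neg, ← hAB, mul_assoc]
      · have hBAB : B * (A * B) = -(A * B) * B := by rw [← mul_assoc, hAB, neg_neg]
        rw [Matrix.SpecialLinearGroup.coe_mul, ← hA, ← hB, mul_assoc (A * B), e2, mul_neg, ← mul_assoc,
          ← neg_mul, ← neg_mul, ← hBAB, mul_assoc]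
  obtain ⟨-, htra, -, -⟩ := PKlein.t0_props h2 ha
  obtain ⟨-, htrb, -, -⟩ := PKlein.t0_props h2 hb
  have t11 : ∀ s : SLn 2 F, Cfsg.Agent.SL2Class.tr s = 0 →
      (s : Matrix (Fin 2) (Fin 2) F) 1 1 = -(s : Matrix (Fin 2) (Fin 2) F) 0 0 := fun s hs => by
    simp [Cfsg.Agent.SL2Class.tr, Matrix.trace_fin_two] at hs
    linear_combination hs
  obtain ⟨r, hr⟩ := commutant h2 hA2 hB2 hAB (t11 a htra) (t11 b htrb) hca hcb
  have hcen : Matrix.SpecialLinearGroup.toGL c * g ∈ Subgroup.center (GL (Fin 2) F) := by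
    refine Subgroup.mem_center_iff.2 fun z => Units.ext ?_
    simp only [Units.val_mul]
    show (z : Matrix (Fin 2) (Fin 2) F) * ((c : Matrix (Fin 2) (Fin 2) F) * Γ) =
      ((c : Matrix (Fin 2) (Fin 2) F) * Γ) * (z : Matrix (Fin 2) (Fin 2) F)
    rw [hr, mul_smul_comm, smul_mul_assoc, mul_one, one_mul]
  have hone : conjA (Matrix.SpecialLinearGroup.toGL c * g) = (1 : MulAut (PSLn 2 F)) :=
    (conjA_eq_one_iff p le_rfl).2 hcen
  rw [map_mul, conjA_toGL, ← hdec] at hone
  refine ⟨(mkP c)⁻¹, V.inv_mem hc, ?_⟩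
  rw [map_inv]
  exact eq_inv_of_mul_eq_one_right hone

end Cfsg.Agent.JankoRee

namespace Cfsg.Agent.JankoRee

open Cfsg.Agent.Classical

variable {F : Type*} [Field F] [Fintype F]

local notation "PG" => Matrix.ProjectiveSpecialLinearGroup (Fin 2) F

theorem isSimple (h3 : 3 < Fintype.card F) : IsSimpleGroup PG :=
  Classical.isSimpleGroup_psl (Or.inr ⟨by simp, Classical.Small.exists_sq_ne_one h3⟩)

/-- A fixed-point-free element of order three normalising a Klein four group. -/
theorem exists_three (hq : Fintype.card F % 8 = 3 ∨ Fintype.card F % 8 = 5) (V : Subgroup PG) [IsKleinFour V] :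
    ∃ w : PG, (∀ v ∈ V, w * v * w⁻¹ ∈ V) ∧
      ∀ v ∈ V, v ≠ 1 → ∀ u ∈ V, u ≠ 1 → u = v ∨ u = w * v * w⁻¹ ∨ u = w * w * v * (w * w)⁻¹ := by
  have h2 := two_ne (Nat.odd_iff.2 (by omega) : Odd (Fintype.card F))
  have h12 := PKlein.normalizer_twelve h2 rfl hq V
  haveI : Fact (Nat.Prime 3) := ⟨Nat.prime_three⟩
  obtain ⟨⟨w, hw⟩, hwo⟩ := exists_prime_orderOf_dvd_card' (G := ↥(Subgroup.normalizer (V : Set PG))) 3 (by rw [h12]; norm_num)
  rw [Subgroup.orderOf_mk] at hwo
  have hmem : ∀ v ∈ V, w * v * w⁻¹ ∈ V := fun v hv => (Subgroup.mem_normalizer_iff.1 hw v).1 hv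
  have hwV : w ∉ V := fun h => by
    have := Subgroup.orderOf_dvd_natCard V h
    rw [hwo, IsKleinFour.card_four] at this
    omega
  have hw3 : w * (w * w) = 1 := by
    rw [← pow_two, ← pow_succ']
    have := pow_orderOf_eq_one w
    rwa [hwo] at this
  -- no nonidentity element of V is fixed
  have hfpf : ∀ v ∈ V, v ≠ 1 → w * v * w⁻¹ ≠ v := by
    intro v hv v1 hfix
    obtain ⟨u, huV, u1, uv⟩ : ∃ u ∈ V, u ≠ 1 ∧ u ≠ v := by
      obtain ⟨x, y, hx, hy, x1, y1, hxy⟩ := KleinN.exists_basis V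
      by_cases h : x = v
      · exact ⟨y, hy, y1, fun e => hxy (h.trans e.symm)⟩
      · exact ⟨x, hx, x1, h⟩
    have step : ∀ z ∈ V, z ≠ 1 → z ≠ v → w * z * w⁻¹ ≠ 1 ∧ w * z * w⁻¹ ≠ v := fun z _ z1 zv =>
      ⟨fun e => z1 (conj_eq_one_iff.1 e), fun e => zv (mul_left_cancel (mul_right_cancel (e.trans hfix.symm)))⟩
    have cases : ∀ z ∈ V, z ≠ 1 → z ≠ v → z = u ∨ z = u * v := by
      intro z hz z1 zv
      rcases KleinN.mem_cases V huV hv u1 v1 uv hz with h | h | h | h
      · exact absurd h z1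
      · exact Or.inl h
      · exact absurd h zv
      · exact Or.inr h
    obtain ⟨s1, sv⟩ := step u huV u1 uv
    rcases cases _ (hmem u huV) s1 sv with h | h
    · refine hwV (PKlein.centralizer_klein h2 V (Subgroup.mem_centralizer_iff.2 fun z hz => ?_))
      have : w * z * w⁻¹ = z := by
        rcases KleinN.mem_cases V huV hv u1 v1 uv hz with e | e | e | e <;> rw [e]
        · group
        · exact h
        · exact hfix
        · calc w * (u * v) * w⁻¹ = (w * u * w⁻¹) * (w * v * w⁻¹) := by group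
            _ = u * v := by rw [h, hfix]
      exact (mul_inv_eq_iff_eq_mul.1 this).symm
    · have hvv : v * v = 1 := congrArg Subtype.val (IsKleinFour.mul_self (⟨v, hv⟩ : V))
      have hsq : (w * w) * u * (w * w)⁻¹ = u := by
        calc (w * w) * u * (w * w)⁻¹ = w * (w * u * w⁻¹) * w⁻¹ := by group
          _ = (w * u * w⁻¹) * (w * v * w⁻¹) := by
            conv_lhs => rw [h]
            group
          _ = u := by rw [h, hfix, mul_assoc, hvv, mul_one]
      have h3 : (w * (w * w)) * u * (w * (w * w))⁻¹ = u * v := by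
        calc (w * (w * w)) * u * (w * (w * w))⁻¹ = w * ((w * w) * u * (w * w)⁻¹) * w⁻¹ := by group
          _ = u * v := by rw [hsq, h]
      rw [hw3, one_mul, inv_one, mul_one] at h3
      exact v1 (left_eq_mul.1 h3)
  refine ⟨w, hmem, fun v hv v1 u hu u1 => ?_⟩
  set a := w * v * w⁻¹
  have ha : a ∈ V := hmem v hv
  have a1 : a ≠ 1 := fun e => v1 (conj_eq_one_iff.1 e)
  have hb : w * w * v * (w * w)⁻¹ = w * a * w⁻¹ := by simp only [a]; group
  rw [hb]
  rcases KleinN.mem_cases V hv ha v1 a1 (hfpf v hv v1).symm hu with h | h | h | h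
  · exact absurd h u1
  · exact Or.inl h
  · exact Or.inr (Or.inl h)
  · rcases KleinN.mem_cases V hv ha v1 a1 (hfpf v hv v1).symm (hmem a ha) with g | g | g | g
    · exact absurd (conj_eq_one_iff.1 g) a1
    · exfalso
      -- a two-cycle contradicts order three
      have h3 : w * (w * a * w⁻¹) * w⁻¹ = (w * (w * w)) * v * (w * (w * w))⁻¹ := by simp only [a]; group
      rw [hw3, g] at h3
      simp only [one_mul, inv_one, mul_one] at h3
      exact hfpf v hv v1 h3
    · exact absurd g (hfpf a ha a1)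
    · exact Or.inr (Or.inr (h.trans g.symm))

end Cfsg.Agent.JankoRee
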