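import Mathlib
import Cfsg.Prelude.Def_TwoFusion
import Cfsg.Agent.JankoRee.PSLFacts
import Cfsg.Agent.Fusion.Transfer
import Cfsg.Agent.SylMult.Basic

/-!
Simple groups with abelian Sylow 2-subgroup and an involution centraliser 2 x (almost simple group over
PSL(2, q)): central 2-extensions and automorphisms centralising a Sylow 2-subgroup.
-/

set_option autoImplicit false

namespace Cfsg.Agent.JankoRee

open scoped commutatorElement

universe u v

/-- The configuration. -/
structure Cfg (G : Type u) [Group G] [Finite G] (F : Type v) [Field F] [Fintype F] where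
  t : G
  ht : orderOf t = 2
  E : Subgroup G
  hd : Cfsg.IsInternalDirectProduct (Subgroup.zpowers t) E (Subgroup.centralizer ({t} : Set G))
  j : Matrix.ProjectiveSpecialLinearGroup (Fin 2) F →* G
  jinj : Function.Injective j
  jE : ∀ p, j p ∈ E
  jnorm : ∀ e ∈ E, ∀ p, e * j p * e⁻¹ ∈ j.range
  jcent : ∀ e ∈ E, (∀ p, e * j p = j p * e) → e = 1
  hFo : Odd (Fintype.card F)
  hF3 : 3 < Fintype.card F
  hab : ∀ Q : Subgroup G, IsPGroup 2 Q → ∀ a ∈ Q, ∀ b ∈ Q, a * b = b * a

namespace Cfg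

variable {G : Type u} [Group G] [Finite G] {F : Type v} [Field F] [Fintype F] (c : Cfg G F)

local notation "PG" => Matrix.ProjectiveSpecialLinearGroup (Fin 2) F

include c in
theorem mod_eight : Fintype.card F % 8 = 3 ∨ Fintype.card F % 8 = 5 :=
  JankoRee.mod_eight c.hFo fun Q hQ a ha b hb =>
    c.jinj (by
      rw [map_mul, map_mul]
      exact c.hab (Q.map c.j) (hQ.map c.j) _ (Subgroup.mem_map_of_mem _ ha) _ (Subgroup.mem_map_of_mem _ hb))

theorem t_ne : c.t ≠ 1 := fun h => by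
  have := c.ht
  rw [h, orderOf_one] at this
  omega

theorem tt : c.t * c.t = 1 := by
  rw [← pow_two, ← c.ht, pow_orderOf_eq_one]

theorem mem_zt {x : G} : x ∈ Subgroup.zpowers c.t ↔ x = 1 ∨ x = c.t := by
  classical
  constructor
  · intro hx
    rw [mem_zpowers_iff_mem_range_orderOf, c.ht] at hx
    obtain ⟨n, hn, rfl⟩ := Finset.mem_image.1 hx
    have : n < 2 := Finset.mem_range.1 hn
    interval_cases n <;> simp
  · rintro (rfl | rfl)
    · exact one_mem _
    · exact Subgroup.mem_zpowers _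

theorem comm_t {e : G} (he : e ∈ c.E) : c.t * e = e * c.t :=
  c.hd.2.2.1 _ (Subgroup.mem_zpowers _) _ he

theorem t_notMem : c.t ∉ c.E := fun h =>
  c.t_ne (by
    have : c.t ∈ Subgroup.zpowers c.t ⊓ c.E := ⟨Subgroup.mem_zpowers _, h⟩
    rw [c.hd.2.2.2.1] at this
    exact this)

theorem mem_H_iff {h : G} :
    h * c.t = c.t * h ↔ ∃ e ∈ c.E, h = e ∨ h = c.t * e := by
  constructor
  · intro hh
    have hh' : h ∈ Subgroup.zpowers c.t ⊔ c.E := by
      rw [c.hd.2.2.2.2]
      exact Subgroup.mem_centralizer_singleton_iff.2 hh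
    rw [Subgroup.sup_eq_closure] at hh'
    refine Subgroup.closure_induction (p := fun x _ => ∃ e ∈ c.E, x = e ∨ x = c.t * e) ?_ ?_ ?_ ?_ hh'
    · rintro x (hx | hx)
      · rcases c.mem_zt.1 hx with rfl | rfl
        · exact ⟨1, one_mem _, Or.inl rfl⟩
        · exact ⟨1, one_mem _, Or.inr (mul_one _).symm⟩
      · exact ⟨x, hx, Or.inl rfl⟩
    · exact ⟨1, one_mem _, Or.inl rfl⟩
    rotate_left
    · rintro x _ ⟨e, he, hx⟩
      refine ⟨e⁻¹, c.E.inv_mem he, ?_⟩
      rcases hx with rfl | rfl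
      · exact Or.inl rfl
      · exact Or.inr (by rw [_root_.mul_inv_rev, inv_eq_of_mul_eq_one_right c.tt, c.comm_t (c.E.inv_mem he)])
    · rintro x y _ _ ⟨e, he, hx⟩ ⟨f, hf, hy⟩
      refine ⟨e * f, c.E.mul_mem he hf, ?_⟩
      rcases hx with rfl | rfl <;> rcases hy with rfl | rfl
      · exact Or.inl rfl
      · exact Or.inr (by rw [← mul_assoc, ← c.comm_t he, mul_assoc])
      · exact Or.inr (mul_assoc _ _ _)
      · refine Or.inl ?_
        rw [mul_assoc c.t e, ← mul_assoc e c.t, ← c.comm_t he, mul_assoc c.t e, ← mul_assoc c.t c.t, c.tt,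
          one_mul]
  · rintro ⟨e, he, rfl | rfl⟩
    · exact (c.comm_t he).symm
    · rw [mul_assoc, ← c.comm_t he]

theorem sq_mem {h : G} (hh : h * c.t = c.t * h) : h * h ∈ c.E := by
  obtain ⟨e, he, hcase⟩ := c.mem_H_iff.1 hh
  rcases hcase with rfl | rfl
  · exact c.E.mul_mem he he
  · have : c.t * e * (c.t * e) = e * e := by
      rw [mul_assoc c.t e, ← mul_assoc e c.t, ← c.comm_t he, mul_assoc c.t e, ← mul_assoc c.t c.t, c.tt,
        one_mul]
    rw [this]
    exact c.E.mul_mem he he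

theorem jH (p : PG) : c.j p * c.t = c.t * c.j p := (c.comm_t (c.jE p)).symm

theorem conj_H {h : G} (hh : h * c.t = c.t * h) (p : PG) : h * c.j p * h⁻¹ ∈ c.j.range := by
  obtain ⟨e, he, hcase⟩ := c.mem_H_iff.1 hh
  rcases hcase with rfl | rfl
  · exact c.jnorm h he p
  · obtain ⟨p', hp'⟩ := c.jnorm e he p
    refine ⟨p', ?_⟩
    rw [show c.t * e * c.j p * (c.t * e)⁻¹ = c.t * (e * c.j p * e⁻¹) * c.t⁻¹ by group, ← hp',
      c.comm_t (c.jE p'), mul_inv_cancel_right]

theorem exists_aut (γ : MulAut G) (h : ∀ p, γ (c.j p) ∈ c.j.range) :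
    ∃ β : MulAut PG, ∀ p, c.j (β p) = γ (c.j p) := by
  choose f hf using h
  have hmul : ∀ a b, f (a * b) = f a * f b := fun a b => c.jinj (by
    rw [map_mul, hf, hf, hf, map_mul, map_mul])
  have hinj : Function.Injective f := fun a b e => c.jinj (γ.injective (by rw [← hf, ← hf, e]))
  exact ⟨MulEquiv.ofBijective ({ toFun := f, map_one' := c.jinj (by rw [hf, map_one, map_one]), map_mul' := hmul } : PG →* PG)
    (Finite.injective_iff_bijective.1 hinj), hf⟩

theorem aut_pow {γ : MulAut G} {β : MulAut PG} (h : ∀ p, c.j (β p) = γ (c.j p)) (n : ℕ) (p : PG) :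
    c.j ((β ^ n) p) = (γ ^ n) (c.j p) := by
  induction n generalizing p with
  | zero => rfl
  | succ n ih => rw [pow_succ, pow_succ, MulAut.mul_apply, MulAut.mul_apply, ih, h]

/-- An automorphism fixing t maps the image of PSL into itself. -/
theorem image_mem (γ : MulAut G) (hγ : γ c.t = c.t) (p : PG) : γ (c.j p) ∈ c.j.range := by
  haveI := isSimple (F := F) c.hF3
  have hH : ∀ h, h * c.t = c.t * h → γ h * c.t = c.t * γ h := fun h hh => by
    rw [← hγ, ← map_mul, ← map_mul, hh]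
  have hH' : ∀ h, h * c.t = c.t * h → γ.symm h * c.t = c.t * γ.symm h := fun h hh => by
    have e : γ.symm c.t = c.t := γ.symm_apply_eq.2 hγ.symm
    rw [← e, ← map_mul, ← map_mul, hh]
  let g : PG →* G := γ.toMonoidHom.comp c.j
  -- images lie in E
  have hE : ∀ p, g p ∈ c.E := by
    let Sq : Subgroup PG := Subgroup.closure (Set.range fun x : PG => x * x)
    have : Sq.Normal := ⟨fun n hn y => by
      have hsub : Sq ≤ Sq.comap (MulAut.conj y).toMonoidHom := (Subgroup.closure_le _).2 (by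
        rintro _ ⟨z, rfl⟩
        exact Subgroup.subset_closure ⟨y * z * y⁻¹, by simp [MulAut.conj_apply, mul_assoc]⟩)
      exact hsub hn⟩
    have hle : Sq ≤ c.E.comap g := (Subgroup.closure_le _).2 (by
      rintro _ ⟨x, rfl⟩
      show γ (c.j (x * x)) ∈ c.E
      rw [map_mul, map_mul]
      exact c.sq_mem (hH _ (c.jH x)))
    rcases this.eq_bot_or_eq_top with hb | ht
    · exfalso
      have h1 : ∀ x : PG, x * x = 1 := fun x => by
        have : x * x ∈ Sq := Subgroup.subset_closure ⟨x, rfl⟩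
        rw [hb] at this
        exact this
      obtain ⟨V, hV⟩ := Classical.PKlein.exists_klein (F := F) (two_ne c.hFo)
      obtain ⟨w, hw, hw'⟩ := exists_three c.mod_eight V
      obtain ⟨a, b, ha, hb', a1, b1, hab⟩ := Classical.KleinN.exists_basis V
      have hc : ∀ v, w * v * w⁻¹ = v := fun v => by
        have e1 : w⁻¹ = w := inv_eq_of_mul_eq_one_right (h1 w)
        have e2 : v⁻¹ = v := inv_eq_of_mul_eq_one_right (h1 v)
        have e3 : (w * v)⁻¹ = w * v := inv_eq_of_mul_eq_one_right (h1 _)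
        rw [_root_.mul_inv_rev, e1, e2] at e3
        rw [e1, ← e3, mul_assoc, h1 w, mul_one]
      rcases hw' a ha a1 b hb' b1 with h | h | h
      · exact hab h.symm
      · exact hab (h.trans (hc a)).symm
      · rw [h1 w, one_mul, inv_one, mul_one] at h
        exact hab h.symm
    · intro p
      exact hle (ht ▸ Subgroup.mem_top p)
  let M : Subgroup PG := c.j.range.comap g
  have hM : M.Normal := ⟨fun x hx y => by
    show g (y * x * y⁻¹) ∈ c.j.range
    obtain ⟨x', hx'⟩ := hx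
    rw [map_mul, map_mul, map_inv, ← hx']
    exact c.jnorm _ (hE y) x'⟩
  rcases hM.eq_bot_or_eq_top with hb | ht
  · exfalso
    have hcen : ∀ a b, g a * c.j b = c.j b * g a := by
      intro a b
      -- the commutator lies in both images
      have h1 : g a * c.j b * (g a)⁻¹ * (c.j b)⁻¹ ∈ c.j.range :=
        mul_mem (c.jnorm _ (hE a) b) (inv_mem ⟨b, rfl⟩)
      obtain ⟨a', ha'⟩ := c.conj_H (hH' _ (c.jH b)) a⁻¹
      have h2 : g (a * a') = g a * c.j b * (g a)⁻¹ * (c.j b)⁻¹ := by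
        show γ (c.j (a * a')) = γ (c.j a) * c.j b * (γ (c.j a))⁻¹ * (c.j b)⁻¹
        rw [map_mul, ha', map_inv, map_mul, map_mul, map_mul, map_inv, map_inv, γ.apply_symm_apply]
        group
      have h3 : a * a' ∈ M := by show g (a * a') ∈ c.j.range; rw [h2]; exact h1
      rw [hb, Subgroup.mem_bot] at h3
      rw [h3, map_one] at h2
      calc g a * c.j b = g a * c.j b * (g a)⁻¹ * (c.j b)⁻¹ * (c.j b * g a) := by group
        _ = c.j b * g a := by rw [← h2, one_mul]
    obtain ⟨q, hq⟩ := exists_ne (1 : PG)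
    exact hq (c.jinj (γ.injective (by
      show γ (c.j q) = γ (c.j 1)
      rw [map_one, map_one]
      exact c.jcent _ (hE q) fun p => hcen q p)))
  · have : p ∈ M := ht ▸ Subgroup.mem_top p
    exact this

/-- Sylow 2-subgroup data. -/
structure Data (c : Cfg G F) where
  V : Subgroup (Matrix.ProjectiveSpecialLinearGroup (Fin 2) F)
  kl : IsKleinFour V
  S : Sylow 2 G
  tS : c.t ∈ (S : Subgroup G)
  mem : ∀ x : G, x ∈ (S : Subgroup G) ↔ ∃ v ∈ V, x = c.j v ∨ x = c.t * c.j v

theorem fixes_E {γ : MulAut G} {k : ℕ} (hγk : γ ^ 2 ^ k = 1) (hγt : γ c.t = c.t)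
    (V : Subgroup PG) [IsKleinFour V] (hfix : ∀ v ∈ V, γ (c.j v) = c.j v) :
    ∃ v ∈ V, ∀ p, γ (c.j p) = c.j v * c.j p * (c.j v)⁻¹ := by
  obtain ⟨β, hβ⟩ := c.exists_aut γ (c.image_mem γ hγt)
  obtain ⟨v, hv, rfl⟩ := fixes_klein c.mod_eight V β k
    (MulEquiv.ext fun p => c.jinj (by rw [c.aut_pow hβ, hγk]; rfl))
    (fun w hw => c.jinj ((hβ w).trans (hfix w hw)))
  exact ⟨v, hv, fun p => by rw [← hβ, MulAut.conj_apply, map_mul, map_mul, map_inv]⟩

theorem exists_data : Nonempty (Data c) := by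
  obtain ⟨V, hV⟩ := Classical.PKlein.exists_klein (F := F) (two_ne c.hFo)
  let W : Subgroup G := (V.map c.j) ⊔ Subgroup.zpowers c.t
  have hW : IsPGroup 2 W := by
    refine IsPGroup.to_sup_of_normal_right' ((IsPGroup.of_card (n := 2) (by
      rw [IsKleinFour.card_four]; rfl)).map c.j) (IsPGroup.of_card (n := 1) (by
      rw [Nat.card_zpowers, c.ht]; rfl)) ?_
    rintro _ ⟨v, hv, rfl⟩
    refine Subgroup.mem_normalizer_iff.2 fun x => ?_
    constructor
    · intro hx
      rcases c.mem_zt.1 hx with rfl | rfl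
      · simp
      · rw [c.jH, mul_inv_cancel_right]; exact Subgroup.mem_zpowers _
    · intro hx
      rcases c.mem_zt.1 hx with e | e
      · rw [conj_eq_one_iff.1 e]; exact one_mem _
      · have : x = c.t := mul_left_cancel (mul_right_cancel (e.trans (by rw [c.jH, mul_inv_cancel_right])))
        rw [this]; exact Subgroup.mem_zpowers _
  obtain ⟨S, hS⟩ := hW.exists_le_sylow
  have tS : c.t ∈ (S : Subgroup G) := hS (Subgroup.mem_sup_right (Subgroup.mem_zpowers _))
  have vS : ∀ v ∈ V, c.j v ∈ (S : Subgroup G) := fun v hv =>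
    hS (Subgroup.mem_sup_left (Subgroup.mem_map_of_mem _ hv))
  refine ⟨⟨V, hV, S, tS, fun x => ⟨fun hx => ?_, ?_⟩⟩⟩
  · have key : ∀ e ∈ c.E, e ∈ (S : Subgroup G) → ∃ v ∈ V, e = c.j v := by
      intro e he heS
      obtain ⟨k, hk⟩ := S.2 ⟨e, heS⟩
      have hk' : e ^ 2 ^ k = 1 := congrArg Subtype.val hk
      obtain ⟨v, hv, hcon⟩ := c.fixes_E (γ := MulAut.conj e) (k := k) (by rw [← map_pow, hk', map_one])
        (by rw [MulAut.conj_apply, ← c.comm_t he, mul_inv_cancel_right]) V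
        (fun v hv => by rw [MulAut.conj_apply, c.hab _ S.2 _ heS _ (vS v hv), mul_inv_cancel_right])
      refine ⟨v, hv, ?_⟩
      have := c.jcent ((c.j v)⁻¹ * e) (c.E.mul_mem (c.E.inv_mem (c.jE v)) he) fun p => by
        have h := hcon p
        rw [MulAut.conj_apply, mul_inv_eq_iff_eq_mul] at h
        rw [mul_assoc, h]; group
      exact (inv_mul_eq_one.1 this).symm
    obtain ⟨e, he, rfl | rfl⟩ := c.mem_H_iff.1 (c.hab _ S.2 _ hx _ tS)
    · obtain ⟨v, hv, rfl⟩ := key x he hx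
      exact ⟨v, hv, Or.inl rfl⟩
    · have heS : e ∈ (S : Subgroup G) := (Subgroup.mul_mem_cancel_left _ tS).1 hx
      obtain ⟨v, hv, rfl⟩ := key e he heS
      exact ⟨v, hv, Or.inr rfl⟩
  · rintro ⟨v, hv, rfl | rfl⟩
    · exact vS v hv
    · exact mul_mem tS (vS v hv)

namespace Data

variable {c} (d : Data c)

theorem jS {v : PG} (hv : v ∈ d.V) : c.j v ∈ (d.S : Subgroup G) := (d.mem _).2 ⟨v, hv, Or.inl rfl⟩

theorem V_sq {v : PG} (hv : v ∈ d.V) : v * v = 1 :=
  haveI := d.kl
  congrArg Subtype.val (IsKleinFour.mul_self (⟨v, hv⟩ : d.V))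

theorem S_sq {x : G} (hx : x ∈ (d.S : Subgroup G)) : x * x = 1 := by
  obtain ⟨v, hv, rfl | rfl⟩ := (d.mem x).1 hx
  · rw [← map_mul, d.V_sq hv, map_one]
  · rw [mul_assoc, ← mul_assoc (c.j v), c.jH, mul_assoc c.t (c.j v), ← mul_assoc, c.tt, one_mul, ← map_mul,
      d.V_sq hv, map_one]

theorem card_S : Nat.card (d.S : Subgroup G) = 8 := by
  haveI := d.kl
  let f : Bool × d.V → (d.S : Subgroup G) := fun p =>
    ⟨(bif p.1 then c.t else 1) * c.j p.2, by
      cases p.1
      · simpa using d.jS p.2.2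
      · exact mul_mem d.tS (d.jS p.2.2)⟩
  have hf : Function.Bijective f := by
    constructor
    · rintro ⟨a, x⟩ ⟨b, y⟩ h
      have h' : (bif a then c.t else 1) * c.j x = (bif b then c.t else 1) * c.j y := congrArg Subtype.val h
      have hab : a = b := by
        by_contra hne
        cases a <;> cases b <;> simp at h' hne ⊢
        · exact c.t_notMem (by rw [eq_mul_inv_of_mul_eq h'.symm]; exact mul_mem (c.jE _) (inv_mem (c.jE _)))
        · exact c.t_notMem (by rw [eq_mul_inv_of_mul_eq h']; exact mul_mem (c.jE _) (inv_mem (c.jE _)))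
      subst hab
      exact Prod.ext rfl (Subtype.ext (c.jinj (mul_left_cancel h')))
    · rintro ⟨x, hx⟩
      obtain ⟨v, hv, rfl | rfl⟩ := (d.mem x).1 hx
      · exact ⟨(false, ⟨v, hv⟩), Subtype.ext (one_mul _)⟩
      · exact ⟨(true, ⟨v, hv⟩), Subtype.ext rfl⟩
  rw [← Nat.card_eq_of_bijective f hf, Nat.card_prod, IsKleinFour.card_four (G := d.V)]
  simp

theorem exists_w : ∃ w : PG, (∀ v ∈ d.V, w * v * w⁻¹ ∈ d.V) ∧
    ∀ v ∈ d.V, v ≠ 1 → ∀ u ∈ d.V, u ≠ 1 → u = v ∨ u = w * v * w⁻¹ ∨ u = w * w * v * (w * w)⁻¹ :=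
  haveI := d.kl
  exists_three c.mod_eight d.V

theorem w_fpf {w : PG}
    (hw' : ∀ v ∈ d.V, v ≠ 1 → ∀ u ∈ d.V, u ≠ 1 → u = v ∨ u = w * v * w⁻¹ ∨ u = w * w * v * (w * w)⁻¹)
    {v : PG} (hv : v ∈ d.V) (v1 : v ≠ 1) : w * v * w⁻¹ ≠ v := by
  intro e
  have e2 : w * w * v * (w * w)⁻¹ = v := by
    rw [show w * w * v * (w * w)⁻¹ = w * (w * v * w⁻¹) * w⁻¹ by group, e, e]
  haveI := d.kl
  obtain ⟨p, q, hp, hq, p1, q1, hpq⟩ := Classical.KleinN.exists_basis d.V
  have key : ∀ u ∈ d.V, u ≠ 1 → u = v := fun u hu u1 => by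
    rcases hw' v hv v1 u hu u1 with h | h | h
    · exact h
    · exact h.trans e
    · exact h.trans e2
  exact hpq ((key p hp p1).trans (key q hq q1).symm)

theorem w_norm {w : PG} (hw : ∀ v ∈ d.V, w * v * w⁻¹ ∈ d.V) :
    c.j w ∈ Subgroup.normalizer ((d.S : Subgroup G) : Set G) := by
  have hmem : ∀ x ∈ (d.S : Subgroup G), c.j w * x * (c.j w)⁻¹ ∈ (d.S : Subgroup G) := fun x hx => by
    obtain ⟨v, hv, rfl | rfl⟩ := (d.mem x).1 hx
    · exact (d.mem _).2 ⟨_, hw v hv, Or.inl (by rw [map_mul, map_mul, map_inv])⟩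
    · exact (d.mem _).2 ⟨_, hw v hv, Or.inr (by
        rw [map_mul, map_mul, map_inv, ← mul_assoc (c.j w) c.t, c.jH]
        simp only [mul_assoc])⟩
  have hle : (d.S : Subgroup G).map (MulAut.conj (c.j w)).toMonoidHom ≤ (d.S : Subgroup G) := by
    rintro _ ⟨x, hx, rfl⟩
    exact hmem x hx
  have heq := Subgroup.eq_of_le_of_card_ge hle
    (Nat.card_congr ((d.S : Subgroup G).equivMapOfInjective _ (MulAut.conj (c.j w)).injective).toEquiv).le
  refine Subgroup.mem_normalizer_iff.2 fun x => ⟨hmem x, fun hx => ?_⟩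
  have hx' : c.j w * x * (c.j w)⁻¹ ∈ (d.S : Subgroup G).map (MulAut.conj (c.j w)).toMonoidHom := by
    rw [heq]; exact hx
  obtain ⟨y, hy, hy'⟩ := hx'
  rwa [show y = x from mul_left_cancel (mul_right_cancel hy')] at hy

theorem n_mem {n : G} (hn : n ∈ Subgroup.normalizer ((d.S : Subgroup G) : Set G)) {x : G}
    (hx : x ∈ (d.S : Subgroup G)) : n * x * n⁻¹ ∈ (d.S : Subgroup G) :=
  (Subgroup.mem_normalizer_iff.1 hn x).1 hx

theorem exists_mover [IsSimpleGroup G] (hG : ¬ IsMulCommutative G) :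
    ∃ n ∈ Subgroup.normalizer ((d.S : Subgroup G) : Set G), n * c.t * n⁻¹ ≠ c.t := by
  haveI : Fact (Nat.Prime 2) := ⟨Nat.prime_two⟩
  by_contra hcon
  push_neg at hcon
  have hperf : commutator G = ⊤ := by
    rcases (inferInstance : (commutator G).Normal).eq_bot_or_eq_top with h | h
    · refine absurd ⟨⟨fun a b => ?_⟩⟩ hG
      have : ⁅a, b⁆ ∈ commutator G :=
        Subgroup.commutator_mem_commutator (Subgroup.mem_top a) (Subgroup.mem_top b)
      rw [h, Subgroup.mem_bot] at this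
      exact commutatorElement_eq_one_iff_mul_comm.1 this
    · exact h
  have hcontrol : ∀ x ∈ (d.S : Subgroup G), ∀ g : G, g * x * g⁻¹ ∈ (d.S : Subgroup G) →
      ∃ n ∈ Subgroup.normalizer ((d.S : Subgroup G) : Set G), n * x * n⁻¹ = g * x * g⁻¹ := fun x hx g hy =>
    Fusion.exists_mem_normalizer_conj_of_isMulCommutative d.S
      ⟨⟨fun a b => Subtype.ext (c.hab _ d.S.2 _ a.2 _ b.2)⟩⟩ hx g hy
  have h := Fusion.commutator_inf_eq_of_controls d.S _ Subgroup.le_normalizer hcontrol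
  have htc : c.t ∈ commutator G ⊓ (d.S : Subgroup G) := ⟨hperf ▸ Subgroup.mem_top _, d.tS⟩
  rw [h] at htc
  have hle : ⁅Subgroup.normalizer ((d.S : Subgroup G) : Set G),
      Subgroup.normalizer ((d.S : Subgroup G) : Set G)⁆ ≤ c.E := by
    rw [Subgroup.commutator_le]
    intro a ha b hb
    have hc : ∀ n ∈ Subgroup.normalizer ((d.S : Subgroup G) : Set G), n * c.t = c.t * n := fun n hn =>
      mul_inv_eq_iff_eq_mul.1 (hcon n hn)
    obtain ⟨e, he, hea⟩ := c.mem_H_iff.1 (hc a ha)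
    obtain ⟨f, hf, hfb⟩ := c.mem_H_iff.1 (hc b hb)
    have key : ⁅a, b⁆ = ⁅e, f⁆ := by
      have l : ∀ x ∈ c.E, ∀ y, y * c.t = c.t * y → ⁅c.t * x, y⁆ = ⁅x, y⁆ := fun x hx y hy => by
        rw [commutatorElement_def, commutatorElement_def, c.comm_t hx]
        calc x * c.t * y * (x * c.t)⁻¹ * y⁻¹ = x * (c.t * y) * c.t⁻¹ * x⁻¹ * y⁻¹ := by group
          _ = x * y * x⁻¹ * y⁻¹ := by rw [← hy]; group
      have r : ∀ x ∈ c.E, ∀ y ∈ c.E, ⁅x, c.t * y⁆ = ⁅x, y⁆ := fun x hx y hy => by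
        rw [commutatorElement_def, commutatorElement_def]
        calc x * (c.t * y) * x⁻¹ * (c.t * y)⁻¹ = (x * c.t) * y * x⁻¹ * y⁻¹ * c.t⁻¹ := by group
          _ = c.t * (x * y * x⁻¹ * y⁻¹) * c.t⁻¹ := by rw [← c.comm_t hx]; group
          _ = x * y * x⁻¹ * y⁻¹ := by
            rw [c.comm_t (mul_mem (mul_mem (mul_mem hx hy) (inv_mem hx)) (inv_mem hy)), mul_inv_cancel_right]
      rcases hea with rfl | rfl <;> rcases hfb with rfl | rfl
      · rfl
      · exact r _ he _ hf
      · exact l _ he _ (c.comm_t hf).symm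
      · rw [l _ he _ (by rw [mul_assoc, ← c.comm_t hf]), r _ he _ hf]
    rw [key]
    exact mul_mem (mul_mem (mul_mem he hf) (inv_mem he)) (inv_mem hf)
  exact c.t_notMem (hle htc.1)

theorem conj_eq_of_w {w : PG} (v : PG) :
    c.j (w * v * w⁻¹) = c.j w * c.j v * (c.j w)⁻¹ := by rw [map_mul, map_mul, map_inv]

/-- The normaliser of the Sylow subgroup is transitive on its involutions. -/
theorem transitive [IsSimpleGroup G] (hG : ¬ IsMulCommutative G) :
    ∀ x ∈ (d.S : Subgroup G), x ≠ 1 →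
      ∃ n ∈ Subgroup.normalizer ((d.S : Subgroup G) : Set G), n * c.t * n⁻¹ = x := by
  classical
  set N := Subgroup.normalizer ((d.S : Subgroup G) : Set G) with hN
  obtain ⟨w, hw, hw'⟩ := d.exists_w
  have hwN := d.w_norm hw
  let O : Set G := {x | ∃ n ∈ N, n * c.t * n⁻¹ = x}
  have hO : ∀ x ∈ O, ∀ m ∈ N, m * x * m⁻¹ ∈ O := by
    rintro _ ⟨n, hn, rfl⟩ m hm
    exact ⟨m * n, mul_mem hm hn, by group⟩
  have hOS : ∀ x ∈ O, x ∈ (d.S : Subgroup G) ∧ x ≠ 1 := by
    rintro _ ⟨n, hn, rfl⟩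
    exact ⟨d.n_mem hn d.tS, fun e => c.t_ne (conj_eq_one_iff.1 e)⟩
  -- cosets of the two kinds
  have hV : ∀ v ∈ d.V, v ≠ 1 → c.j v ∈ O → ∀ u ∈ d.V, u ≠ 1 → c.j u ∈ O := by
    intro v hv v1 hvO u hu u1
    rcases hw' v hv v1 u hu u1 with rfl | rfl | rfl
    · exact hvO
    · rw [conj_eq_of_w]; exact hO _ hvO _ hwN
    · rw [conj_eq_of_w, map_mul]; exact hO _ hvO _ (mul_mem hwN hwN)
  have hT : ∀ v ∈ d.V, v ≠ 1 → c.t * c.j v ∈ O → ∀ u ∈ d.V, u ≠ 1 → c.t * c.j u ∈ O := by
    intro v hv v1 hvO u hu u1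
    have step : ∀ g : PG, c.t * c.j (g * v * g⁻¹) = c.j g * (c.t * c.j v) * (c.j g)⁻¹ := fun g => by
      rw [conj_eq_of_w, ← mul_assoc (c.j g) c.t, c.jH]; simp only [mul_assoc]
    rcases hw' v hv v1 u hu u1 with rfl | rfl | rfl
    · exact hvO
    · rw [step]; exact hO _ hvO _ hwN
    · rw [step, map_mul]; exact hO _ hvO _ (mul_mem hwN hwN)
  have hodd : Odd (Nat.card O) := by
    have h1 : Nat.card O = ((Subgroup.centralizer ({c.t} : Set G)).subgroupOf N).index := by
      rw [Subgroup.index]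
      refine (Nat.card_congr (Equiv.ofBijective (fun q => Quotient.liftOn' q
        (fun n : N => (⟨(n : G) * c.t * (n : G)⁻¹, n, n.2, rfl⟩ : O)) ?_) ⟨?_, ?_⟩)).symm
      · intro a b hab
        rw [QuotientGroup.leftRel_apply, Subgroup.mem_subgroupOf, Subgroup.mem_centralizer_singleton_iff] at hab
        refine Subtype.ext ?_
        simp only [Subgroup.coe_mul, Subgroup.coe_inv] at hab
        calc (a : G) * c.t * (a : G)⁻¹ = (a : G) * (c.t * ((a : G)⁻¹ * b)) * (b : G)⁻¹ := by group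
          _ = (b : G) * c.t * (b : G)⁻¹ := by rw [← hab]; group
      · intro p q
        induction p using QuotientGroup.induction_on with
        | _ a =>
          induction q using QuotientGroup.induction_on with
          | _ b =>
            intro h
            have h' : (a : G) * c.t * (a : G)⁻¹ = (b : G) * c.t * (b : G)⁻¹ := congrArg Subtype.val h
            refine QuotientGroup.eq.2 ?_
            rw [Subgroup.mem_subgroupOf, Subgroup.mem_centralizer_singleton_iff]
            simp only [Subgroup.coe_mul, Subgroup.coe_inv]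
            calc (a : G)⁻¹ * b * c.t = (a : G)⁻¹ * ((b : G) * c.t * (b : G)⁻¹) * b := by group
              _ = c.t * ((a : G)⁻¹ * b) := by rw [← h']; group
      · rintro ⟨x, n, hn, rfl⟩
        exact ⟨QuotientGroup.mk (⟨n, hn⟩ : N), rfl⟩
    rw [h1]
    haveI : Fact (Nat.Prime 2) := ⟨Nat.prime_two⟩
    have hle : (d.S : Subgroup G).subgroupOf N ≤ (Subgroup.centralizer ({c.t} : Set G)).subgroupOf N :=
      fun x hx => Subgroup.mem_centralizer_singleton_iff.2 (c.hab _ d.S.2 _ hx _ d.tS)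
    have hdvd : ((Subgroup.centralizer ({c.t} : Set G)).subgroupOf N).index ∣ (d.S : Subgroup G).index :=
      (Subgroup.index_dvd_of_le hle).trans (Subgroup.relIndex_dvd_index_of_le Subgroup.le_normalizer)
    have h2 : ¬ 2 ∣ (d.S : Subgroup G).index := d.S.not_dvd_index
    exact Nat.odd_iff.2 (by rcases Nat.mod_two_eq_zero_or_one _ with e | e
                            · exact absurd (dvd_trans (Nat.dvd_of_mod_eq_zero e) hdvd) h2
                            · exact e)
  obtain ⟨n, hn, hne⟩ := d.exists_mover hG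
  obtain ⟨v, hv, hx⟩ := (d.mem _).1 (d.n_mem hn d.tS)
  have hx1 : n * c.t * n⁻¹ ≠ 1 := (hOS _ ⟨n, hn, rfl⟩).2
  have htO : c.t ∈ O := ⟨1, one_mem _, by group⟩
  -- the orbit is everything
  have hall : (∀ u ∈ d.V, u ≠ 1 → c.j u ∈ O) ∧ (∀ u ∈ d.V, u ≠ 1 → c.t * c.j u ∈ O) := by
    have mk : ∀ (f : PG → G), Function.Injective f → (∀ u ∈ d.V, u ≠ 1 → f u ∈ O) →
        (∀ y ∈ O, y = c.t ∨ ∃ u ∈ d.V, u ≠ 1 ∧ y = f u) → (∀ u ∈ d.V, u ≠ 1 → f u ≠ c.t) → False := by
      intro f hf hin hcov hnt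
      let g : d.V → O := fun u => if h : (u : PG) = 1 then ⟨c.t, htO⟩ else ⟨f u, hin u u.2 h⟩
      have hg : Function.Bijective g := by
        constructor
        · intro a b h
          simp only [g] at h
          split_ifs at h with ha hb hb
          · exact Subtype.ext (ha.trans hb.symm)
          · exact absurd (congrArg Subtype.val h).symm (hnt b b.2 hb)
          · exact absurd (congrArg Subtype.val h) (hnt a a.2 ha)
          · exact Subtype.ext (hf (congrArg Subtype.val h))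
        · rintro ⟨y, hy⟩
          rcases hcov y hy with rfl | ⟨u, hu, u1, rfl⟩
          · exact ⟨1, by simp [g]⟩
          · exact ⟨⟨u, hu⟩, by simp [g, u1]⟩
      haveI := d.kl
      rw [← Nat.card_eq_of_bijective g hg, IsKleinFour.card_four] at hodd
      exact absurd hodd (by decide)
    have hsplit : ∀ y ∈ O, y = c.t ∨ (∃ u ∈ d.V, u ≠ 1 ∧ y = c.j u) ∨ ∃ u ∈ d.V, u ≠ 1 ∧ y = c.t * c.j u := by
      intro y hy
      obtain ⟨u, hu, e⟩ := (d.mem y).1 (hOS y hy).1
      by_cases u1 : u = 1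
      · subst u1
        rw [map_one, mul_one] at e
        rcases e with e | e
        · exact absurd e (hOS y hy).2
        · exact Or.inl e
      · rcases e with e | e
        · exact Or.inr (Or.inl ⟨u, hu, u1, e⟩)
        · exact Or.inr (Or.inr ⟨u, hu, u1, e⟩)
    by_cases hA : ∃ u ∈ d.V, u ≠ 1 ∧ c.j u ∈ O
    · obtain ⟨u₀, hu₀, u01, hu₀O⟩ := hA
      refine ⟨hV u₀ hu₀ u01 hu₀O, ?_⟩
      by_cases hB : ∃ u ∈ d.V, u ≠ 1 ∧ c.t * c.j u ∈ O
      · obtain ⟨u₁, hu₁, u11, hu₁O⟩ := hB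
        exact hT u₁ hu₁ u11 hu₁O
      · push_neg at hB
        refine absurd (mk c.j c.jinj (hV u₀ hu₀ u01 hu₀O) (fun y hy => ?_)
          (fun u _ _ e => c.t_notMem (e ▸ c.jE u))) id
        rcases hsplit y hy with h | h | ⟨u, hu, u1, rfl⟩
        · exact Or.inl h
        · exact Or.inr h
        · exact absurd hy (hB u hu u1)
    · push_neg at hA
      have hB : ∃ u ∈ d.V, u ≠ 1 ∧ c.t * c.j u ∈ O := by
        rcases hsplit _ ⟨n, hn, rfl⟩ with h | ⟨u, hu, u1, h⟩ | ⟨u, hu, u1, h⟩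
        · exact absurd h hne
        · exact absurd (h ▸ ⟨n, hn, rfl⟩ : c.j u ∈ O) (hA u hu u1)
        · exact ⟨u, hu, u1, h ▸ ⟨n, hn, rfl⟩⟩
      obtain ⟨u₁, hu₁, u11, hu₁O⟩ := hB
      refine absurd (mk (fun u => c.t * c.j u) (fun a b h => c.jinj (mul_left_cancel h)) (hT u₁ hu₁ u11 hu₁O)
        (fun y hy => ?_) (fun u _ u1 e => u1 (c.jinj (by rw [map_one]; exact mul_eq_left.1 e)))) id
      rcases hsplit y hy with h | ⟨u, hu, u1, rfl⟩ | h
      · exact Or.inl h
      · exact absurd hy (hA u hu u1)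
      · exact Or.inr h
  intro x hxS x1
  obtain ⟨u, hu, e⟩ := (d.mem x).1 hxS
  by_cases u1 : u = 1
  · subst u1
    rw [map_one, mul_one] at e
    rcases e with rfl | rfl
    · exact absurd rfl x1
    · exact htO
  · rcases e with rfl | rfl
    · exact hall.1 u hu u1
    · exact hall.2 u hu u1

/-- Trivial multiplier. -/
theorem multiplier [IsSimpleGroup G] (hG : ¬ IsMulCommutative G) {L : Type*} [Group L] [Finite L] (π : L →* G)
    (hsurj : Function.Surjective π) (hc : π.ker ≤ Subgroup.center L) :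
    ∀ u v : L, π u ∈ (d.S : Subgroup G) → π v ∈ (d.S : Subgroup G) → u * v = v * u := by
  have base : ∀ u v : L, π u = c.t → π v ∈ (d.S : Subgroup G) → u * v = v * u := by
    intro u v hu hv
    have cen : ∀ g : L, π g * c.t = c.t * π g → ⁅u, g⁆ ∈ Subgroup.center L := fun g hg => hc (by
      rw [MonoidHom.mem_ker, map_commutatorElement, hu]
      exact commutatorElement_eq_one_iff_mul_comm.2 hg.symm)
    have mul : ∀ a b : L, π b * c.t = c.t * π b → ⁅u, a * b⁆ = ⁅u, a⁆ * ⁅u, b⁆ := fun a b hb => by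
      have h := Subgroup.mem_center_iff.1 (cen b hb) a
      calc ⁅u, a * b⁆ = ⁅u, a⁆ * (a * ⁅u, b⁆ * a⁻¹) := by simp only [commutatorElement_def]; group
        _ = ⁅u, a⁆ * ⁅u, b⁆ := by rw [h, mul_inv_cancel_right]
    have ker : ∀ z ∈ π.ker, ⁅u, z⁆ = 1 := fun z hz =>
      commutatorElement_eq_one_iff_mul_comm.2 (Subgroup.mem_center_iff.1 (hc hz) u)
    have ct : ∀ {g : L}, π g ∈ (d.S : Subgroup G) → π g * c.t = c.t * π g :=
      fun h => c.hab _ d.S.2 _ h _ d.tS
    have self : ⁅u, u⁆ = 1 := by simp [commutatorElement_def]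
    -- elements over V
    have hVl : ∀ v ∈ d.V, ∀ x : L, π x = c.j v → ⁅u, x⁆ = 1 := by
      intro v hv x hx
      by_cases v1 : v = 1
      · exact ker x (by rw [MonoidHom.mem_ker, hx, v1, map_one])
      obtain ⟨w, hw, hw'⟩ := d.exists_w
      obtain ⟨g, hg⟩ := hsurj (c.j w)
      have hgt : π g * c.t = c.t * π g := hg ▸ c.jH w
      have hxt : π x * c.t = c.t * π x := hx ▸ c.jH v
      have inv : ∀ y : L, π y * c.t = c.t * π y → ⁅u, g * y * g⁻¹⁆ = ⁅u, y⁆ := fun y hy => by
        have hgi : π g⁻¹ * c.t = c.t * π g⁻¹ := by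
          rw [map_inv]; exact ((show Commute (π g) c.t from hgt).inv_left).eq
        have e : ⁅u, g⁆ * ⁅u, g⁻¹⁆ = 1 := by
          rw [← mul g g⁻¹ hgi, mul_inv_cancel]
          exact commutatorElement_one_right u
        rw [mul _ _ hgi, mul _ _ hy, Subgroup.mem_center_iff.1 (cen y hy) ⁅u, g⁆, mul_assoc, e, mul_one]
      set y := g * x * g⁻¹ with hy
      have hyπ : π y = c.j (w * v * w⁻¹) := by rw [hy]; simp only [map_mul, map_inv, hg, hx]
      have hyt : π y * c.t = c.t * π y := hyπ ▸ c.jH _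
      set z := g * y * g⁻¹ with hz
      have hzπ : π z = c.j (w * w * v * (w * w)⁻¹) := by
        rw [hz]; simp only [map_mul, map_inv, hg, hyπ]; group
      have hzt : π z * c.t = c.t * π z := hzπ ▸ c.jH _
      have e3 : ⁅u, x⁆ * ⁅u, x⁆ * ⁅u, x⁆ = 1 := by
        have hprod : x * y * z ∈ π.ker := by
          rw [MonoidHom.mem_ker, map_mul, map_mul, hx, hyπ, hzπ, ← map_mul, ← map_mul, ← map_one c.j]
          congr 1
          haveI := d.kl
          have hww : w * w * v * (w * w)⁻¹ = w * (w * v * w⁻¹) * w⁻¹ := by group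
          have ha := hw v hv
          have hb := hw _ ha
          rw [← hww] at hb
          have a1 : w * v * w⁻¹ ≠ 1 := fun e => v1 (conj_eq_one_iff.1 e)
          have b1 : w * w * v * (w * w)⁻¹ ≠ 1 := fun e => v1 (conj_eq_one_iff.1 e)
          have hne : v * (w * v * w⁻¹) ≠ 1 := fun e => d.w_fpf hw' hv v1
            ((mul_left_cancel (e.trans (d.V_sq hv).symm)))
          rcases hw' v hv v1 _ (mul_mem hv ha) hne with h | h | h
          · exact absurd (mul_eq_left.1 h) a1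
          · exact absurd (mul_eq_right.1 h) v1
          · rw [h]; exact d.V_sq hb
        rw [← ker _ hprod, mul _ _ hzt, mul _ _ hyt, hz, inv y hyt, hy, inv x hxt]
      have e2 : ⁅u, x⁆ * ⁅u, x⁆ = 1 := by
        rw [← mul x x hxt]
        exact ker _ (by rw [MonoidHom.mem_ker, map_mul, hx, ← map_mul, d.V_sq hv, map_one])
      rw [e2, one_mul] at e3
      exact e3
    obtain ⟨v', hv', e | e⟩ := (d.mem _).1 hv
    · exact commutatorElement_eq_one_iff_mul_comm.1 (hVl v' hv' v e)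
    · have h1 : π (u⁻¹ * v) = c.j v' := by rw [map_mul, map_inv, hu, e, inv_mul_cancel_left]
      have h2 := mul u (u⁻¹ * v) (h1 ▸ c.jH v')
      rw [mul_inv_cancel_left, self, one_mul, hVl v' hv' _ h1] at h2
      exact commutatorElement_eq_one_iff_mul_comm.1 h2
  intro u v hu hv
  by_cases h1 : π u = 1
  · exact (Subgroup.mem_center_iff.1 (hc h1) v).symm
  obtain ⟨n, hn, hnt⟩ := d.transitive hG _ hu h1
  obtain ⟨g, rfl⟩ := hsurj n
  have h := base (g⁻¹ * u * g) (g⁻¹ * v * g) (by rw [map_mul, map_mul, map_inv, ← hnt]; group) (by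
    rw [map_mul, map_mul, map_inv]
    simpa using d.n_mem (inv_mem hn) hv)
  calc u * v = g * ((g⁻¹ * u * g) * (g⁻¹ * v * g)) * g⁻¹ := by group
    _ = v * u := by rw [h]; group

/-- An automorphism fixing the Sylow subgroup is inner on the centraliser of t. -/
theorem inner_on_H {γ : MulAut G} {k : ℕ} (hγk : γ ^ 2 ^ k = 1) (hfix : ∀ x ∈ (d.S : Subgroup G), γ x = x) :
    ∃ v ∈ d.V, ∀ h : G, h * c.t = c.t * h → γ h = c.j v * h * (c.j v)⁻¹ := by
  haveI : Fact (Nat.Prime 2) := ⟨Nat.prime_two⟩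
  haveI := d.kl
  have htf := hfix _ d.tS
  obtain ⟨v, hv, hP⟩ := c.fixes_E hγk htf d.V (fun v hv => hfix _ (d.jS hv))
  refine ⟨v, hv, ?_⟩
  set δ : MulAut G := (MulAut.conj (c.j v))⁻¹ * γ with hδdef
  have hδ : ∀ x, δ x = (c.j v)⁻¹ * γ x * c.j v := fun x => by
    rw [hδdef, MulAut.mul_apply, ← map_inv, MulAut.conj_apply, inv_inv]
  have hδP : ∀ p, δ (c.j p) = c.j p := fun p => by rw [hδ, hP]; group
  have hδt : δ c.t = c.t := by rw [hδ, htf, mul_assoc, ← c.jH, ← mul_assoc, inv_mul_cancel, one_mul]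
  have hδS : ∀ x ∈ (d.S : Subgroup G), δ x = x := fun x hx => by
    obtain ⟨u, _, rfl | rfl⟩ := (d.mem x).1 hx
    · exact hδP u
    · rw [map_mul, hδt, hδP]
  have hE : ∀ e ∈ c.E, δ e = e ∨ δ e = c.t * e := by
    intro e he
    have hH : δ e * c.t = c.t * δ e := by rw [← hδt, ← map_mul, ← map_mul, c.comm_t he]
    obtain ⟨f, hf, hcase⟩ := c.mem_H_iff.1 hH
    have hact : ∀ p, δ e * c.j p * (δ e)⁻¹ = e * c.j p * e⁻¹ := fun p => by
      obtain ⟨q, hq⟩ := c.jnorm e he p
      rw [← hδP p, ← map_inv, ← map_mul, ← map_mul, hδP p, ← hq, hδP q]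
    have hfe : f = e := by
      have h := c.jcent (e⁻¹ * f) (mul_mem (inv_mem he) hf) fun p => by
        have h := hact p
        have hf' : f * c.j p * f⁻¹ = e * c.j p * e⁻¹ := by
          rcases hcase with r | r <;> rw [r] at h
          · exact h
          · obtain ⟨q, hq⟩ := c.jnorm f hf p
            rw [← h, show c.t * f * c.j p * (c.t * f)⁻¹ = c.t * (f * c.j p * f⁻¹) * c.t⁻¹ by group, ← hq,
              c.comm_t (c.jE q), mul_inv_cancel_right]
        rw [mul_inv_eq_iff_eq_mul] at hf'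
        rw [mul_assoc, hf']; group
      exact (inv_mul_eq_one.1 h).symm
    subst hfe
    exact hcase
  -- the twisting character is trivial
  let K : Subgroup G :=
    { carrier := {x | x ∈ c.E ∧ δ x = x}
      mul_mem' := fun ha hb => ⟨mul_mem ha.1 hb.1, by rw [map_mul, ha.2, hb.2]⟩
      one_mem' := ⟨one_mem _, map_one _⟩
      inv_mem' := fun ha => ⟨inv_mem ha.1, by rw [map_inv, ha.2]⟩ }
  have hKE : ∀ e ∈ c.E, δ e = e := by
    by_contra hcon
    push_neg at hcon
    obtain ⟨a, ha, hane⟩ := hcon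
    have hat := (hE a ha).resolve_left hane
    have hidx : (K.subgroupOf c.E).index = 2 := by
      rw [Subgroup.index_eq_two_iff]
      refine ⟨⟨a, ha⟩, fun b => ?_⟩
      simp only [Subgroup.mem_subgroupOf, Subgroup.coe_mul]
      rcases hE b b.2 with hb | hb
      · refine Or.inr ⟨⟨b.2, hb⟩, fun hh => ?_⟩
        have := hh.2
        rw [map_mul, hb, hat, ← mul_assoc, ← c.comm_t b.2, mul_assoc] at this
        exact c.t_ne (mul_eq_right.1 this)
      · refine Or.inl ⟨⟨mul_mem b.2 ha, ?_⟩, fun hh => ?_⟩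
        · rw [map_mul, hb, hat, mul_assoc c.t, ← mul_assoc (b : G) c.t, ← c.comm_t b.2, mul_assoc c.t (b : G),
            ← mul_assoc c.t c.t, c.tt, one_mul]
        · exact c.t_ne (mul_eq_right.1 (hb.symm.trans hh.2))
    have h4 : 4 ∣ Nat.card (K.subgroupOf c.E) := by
      let f : d.V →* K.subgroupOf c.E :=
        { toFun := fun u => ⟨⟨c.j u, c.jE u⟩, c.jE u, hδP u⟩
          map_one' := Subtype.ext (Subtype.ext (map_one _))
          map_mul' := fun x y => Subtype.ext (Subtype.ext (map_mul _ _ _)) }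
      have hf : Function.Injective f := fun x y h =>
        Subtype.ext (c.jinj (congrArg (fun z : K.subgroupOf c.E => ((z : c.E) : G)) h))
      have := Subgroup.card_dvd_of_injective f hf
      rwa [IsKleinFour.card_four] at this
    have h8 : 2 ^ 3 ∣ Nat.card c.E := by
      rw [← (K.subgroupOf c.E).card_mul_index, hidx]
      exact mul_dvd_mul_right h4 2
    obtain ⟨Q, hQ⟩ := Sylow.exists_subgroup_card_pow_prime 2 h8
    have hR : IsPGroup 2 (Q.map c.E.subtype ⊔ Subgroup.zpowers c.t : Subgroup G) := by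
      refine IsPGroup.to_sup_of_normal_right' ((IsPGroup.of_card hQ).map _) (IsPGroup.of_card (n := 1) (by
        rw [Nat.card_zpowers, c.ht]; rfl)) ?_
      rintro _ ⟨q, _, rfl⟩
      rw [Subgroup.coe_subtype]
      refine Subgroup.mem_normalizer_iff.2 fun x => ?_
      have hcq : ∀ y ∈ Subgroup.zpowers c.t, (q : G) * y * (q : G)⁻¹ = y := fun y hy => by
        rcases c.mem_zt.1 hy with rfl | rfl
        · group
        · rw [← c.comm_t q.2, mul_inv_cancel_right]
      constructor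
      · intro hx; rw [hcq x hx]; exact hx
      · intro hx
        have := hcq _ hx
        rw [show x = ((q : G) * x * (q : G)⁻¹) from
          (mul_left_cancel (mul_right_cancel this)).symm]
        exact hx
    obtain ⟨T, hT⟩ := hR.exists_le_sylow
    have hTS : Nat.card (T : Subgroup G) = 8 := by
      rw [← d.card_S]; exact Nat.card_congr (Sylow.equiv T d.S).toEquiv
    have hlt : Q.map c.E.subtype < (Q.map c.E.subtype ⊔ Subgroup.zpowers c.t) := by
      refine lt_of_le_of_ne le_sup_left fun e => c.t_notMem ?_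
      have : c.t ∈ Q.map c.E.subtype := e ▸ Subgroup.mem_sup_right (Subgroup.mem_zpowers _)
      exact (Subgroup.map_subtype_le Q) this
    have hc1 : Nat.card (Q.map c.E.subtype) = 8 := by
      rw [← Nat.card_congr (Q.equivMapOfInjective _ (Subgroup.subtype_injective _)).toEquiv, hQ]; rfl
    have := Subgroup.eq_of_le_of_card_ge (hlt.le.trans hT) (by rw [hTS, hc1])
    rw [← this] at hT
    exact hlt.ne (le_antisymm le_sup_left hT)
  intro h hh
  have : δ h = h := by
    obtain ⟨e, he, hcase⟩ := c.mem_H_iff.1 hh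
    rcases hcase with rfl | rfl
    · exact hKE h he
    · rw [map_mul, hδt, hKE e he]
  rw [hδ] at this
  calc γ h = c.j v * ((c.j v)⁻¹ * γ h * c.j v) * (c.j v)⁻¹ := by group
    _ = c.j v * h * (c.j v)⁻¹ := by rw [this]

/-- An automorphism of 2-power order fixing a Sylow 2-subgroup is inner. -/
theorem automorphism [IsSimpleGroup G] (hG : ¬ IsMulCommutative G)
    (hmax : IsCoatom (Subgroup.centralizer ({c.t} : Set G))) {γ : MulAut G} {k : ℕ} (hγk : γ ^ 2 ^ k = 1)
    (hfix : ∀ x ∈ (d.S : Subgroup G), γ x = x) : ∃ g : G, ∀ x, γ x = g * x * g⁻¹ := by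
  classical
  haveI : Fact (Nat.Prime 2) := ⟨Nat.prime_two⟩
  obtain ⟨v, hv, hvH⟩ := d.inner_on_H hγk hfix
  set N := Subgroup.normalizer ((d.S : Subgroup G) : Set G) with hN
  have hmove : ∀ n ∈ N, γ n * n⁻¹ ∈ (d.S : Subgroup G) := by
    intro n hn
    have hgn : ∀ x ∈ (d.S : Subgroup G), γ n * x * (γ n)⁻¹ = n * x * n⁻¹ := fun x hx => by
      rw [← hfix x hx, ← map_inv, ← map_mul, ← map_mul, hfix x hx, hfix _ (d.n_mem hn hx)]
    set e := γ n * n⁻¹ with he
    have hec : ∀ x ∈ (d.S : Subgroup G), e * x = x * e := by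
      intro x hx
      have hx' := hgn _ (d.n_mem (inv_mem hn) hx)
      rw [he]
      calc γ n * n⁻¹ * x = γ n * (n⁻¹ * x * n⁻¹⁻¹) * (γ n)⁻¹ * (γ n * n⁻¹) := by group
        _ = x * (γ n * n⁻¹) := by rw [hx']; group
    -- fixed by γ
    have hce : γ e = e := by
      rw [hvH e (hec _ d.tS), ← hec _ (d.jS hv), mul_inv_cancel_right]
    have hiter : ∀ m : ℕ, (γ ^ m) n = e ^ m * n := by
      intro m
      induction m with
      | zero => simp
      | succ m ih => rw [pow_succ', MulAut.mul_apply, ih, map_mul, map_pow, hce, pow_succ, mul_assoc,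
          show γ n = e * n by rw [he]; group]
    have he2 : e ^ 2 ^ k = 1 := by
      have := hiter (2 ^ k)
      rw [hγk, MulAut.one_apply] at this
      exact mul_eq_right.1 this.symm
    have hZ : IsPGroup 2 (Subgroup.zpowers e) := by
      obtain ⟨m, -, hm⟩ := (Nat.dvd_prime_pow Nat.prime_two).1 (orderOf_dvd_of_pow_eq_one he2)
      exact IsPGroup.of_card (by rw [Nat.card_zpowers, hm])
    have hsup : IsPGroup 2 (Subgroup.zpowers e ⊔ (d.S : Subgroup G) : Subgroup G) := by
      refine IsPGroup.to_sup_of_normal_right' hZ d.S.2 ?_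
      rw [Subgroup.zpowers_le]
      refine Subgroup.mem_normalizer_iff.2 fun x => ⟨fun hx => ?_, fun hx => ?_⟩
      · rw [hec x hx, mul_inv_cancel_right]; exact hx
      · have h1 := hec _ hx
        rwa [show x = e * x * e⁻¹ from (mul_left_cancel (a := e) (by rw [h1]; group))]
    have := d.S.3 hsup le_sup_right
    exact this ▸ Subgroup.mem_sup_left (Subgroup.mem_zpowers e)
  -- a coprime complement in the normaliser
  obtain ⟨R, hR⟩ := Subgroup.exists_right_complement'_of_coprime (N := (d.S : Subgroup G).subgroupOf N)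
    (by
      rw [Nat.card_congr (Subgroup.subgroupOfEquivOfLe Subgroup.le_normalizer).toEquiv, d.card_S]
      refine Nat.Coprime.coprime_dvd_right (Subgroup.relIndex_dvd_index_of_le Subgroup.le_normalizer) ?_
      exact (Nat.prime_two.coprime_iff_not_dvd.2 d.S.not_dvd_index).pow_left 3)
  have hRodd : Odd (Nat.card R) := by
    rw [← hR.symm.index_eq_card]
    exact (Nat.odd_iff.2 (by
      have h := d.S.not_dvd_index
      have hd := Subgroup.relIndex_dvd_index_of_le (Subgroup.le_normalizer (H := (d.S : Subgroup G)))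
      rcases Nat.mod_two_eq_zero_or_one ((d.S : Subgroup G).subgroupOf N).index with e | e
      · exact absurd ((Nat.dvd_of_mod_eq_zero e).trans hd) h
      · exact e))
  letI : Fintype R := Fintype.ofFinite _
  haveI : IsMulCommutative (d.S : Subgroup G) := ⟨⟨fun a b => Subtype.ext (c.hab _ d.S.2 _ a.2 _ b.2)⟩⟩
  let δ : R → (d.S : Subgroup G) := fun r => ⟨γ ((r : N) : G) * ((r : N) : G)⁻¹, hmove _ (r : N).2⟩
  let cj : R → (d.S : Subgroup G) →* (d.S : Subgroup G) := fun r =>
    { toFun := fun x => ⟨((r : N) : G) * x * ((r : N) : G)⁻¹, d.n_mem (r : N).2 x.2⟩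
      map_one' := Subtype.ext (by simp)
      map_mul' := fun x y => Subtype.ext (by simp [mul_assoc]) }
  open scoped IsMulCommutative in
  have hsum : ∃ P : (d.S : Subgroup G), ∀ r : R, δ r * (cj r P) = P := by
    refine ⟨∏ r : R, δ r, fun r => ?_⟩
    have hcoc : ∀ a b : R, δ (a * b) = δ a * cj a (δ b) := fun a b => Subtype.ext (by
      show γ ((((a * b : R) : N) : G)) * (((a * b : R) : N) : G)⁻¹ =
        γ ((a : N) : G) * ((a : N) : G)⁻¹ * (((a : N) : G) * (γ ((b : N) : G) * ((b : N) : G)⁻¹) * ((a : N) : G)⁻¹)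
      simp only [Subgroup.coe_mul, map_mul]
      group)
    have h1 : ∏ b : R, δ (r * b) = ∏ b : R, δ b := Equiv.prod_comp (Equiv.mulLeft r) δ
    rw [Finset.prod_congr rfl (fun b _ => hcoc r b), Finset.prod_mul_distrib, Finset.prod_const, ← map_prod,
      Finset.card_univ, ← Nat.card_eq_fintype_card] at h1
    have hodd : δ r ^ Nat.card R = δ r := by
      obtain ⟨m, hm⟩ := hRodd
      have : δ r * δ r = 1 := Subtype.ext (d.S_sq (δ r).2)
      rw [hm, pow_succ, pow_mul, pow_two, this, one_pow, one_mul]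
    rwa [hodd] at h1
  obtain ⟨P, hP⟩ := hsum
  refine ⟨P, ?_⟩
  set ψ : MulAut G := (MulAut.conj (P : G))⁻¹ * γ with hψdef
  have hψ : ∀ x, ψ x = (P : G)⁻¹ * γ x * P := fun x => by
    rw [hψdef, MulAut.mul_apply, ← map_inv, MulAut.conj_apply, inv_inv]
  have hSfix : ∀ x ∈ (d.S : Subgroup G), ψ x = x := fun x hx => by
    rw [hψ, hfix x hx, mul_assoc, c.hab _ d.S.2 _ hx _ P.2, inv_mul_cancel_left]
  let Fx : Subgroup G := ψ.toMonoidHom.eqLocus (MonoidHom.id G)
  have hRfix : ∀ r : R, ψ ((r : N) : G) = ((r : N) : G) := fun r => by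
    have h : γ ((r : N) : G) * ((r : N) : G)⁻¹ * (((r : N) : G) * P * ((r : N) : G)⁻¹) = P :=
      congrArg Subtype.val (hP r)
    rw [hψ]
    calc (P : G)⁻¹ * γ ((r : N) : G) * P
        = (P : G)⁻¹ * (γ ((r : N) : G) * ((r : N) : G)⁻¹ * (((r : N) : G) * P * ((r : N) : G)⁻¹)) * (r : N) := by
          group
      _ = ((r : N) : G) := by rw [h, inv_mul_cancel, one_mul]
  have hNfix : ∀ n ∈ N, ψ n = n := by
    intro n hn
    obtain ⟨⟨s, r⟩, hsr⟩ := hR.2 ⟨n, hn⟩
    have : ((s : N) : G) * ((r : N) : G) = n := congrArg Subtype.val hsr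
    rw [← this, map_mul, hRfix r]
    congr 1
    exact hSfix _ s.2
  have hψH : ∀ h : G, h * c.t = c.t * h →
      ψ h = ((P : G)⁻¹ * c.j v) * h * ((P : G)⁻¹ * c.j v)⁻¹ := fun h hh => by
    rw [hψ, hvH h hh]; group
  have htriv : ∀ h : G, h * c.t = c.t * h → ψ h = h := by
    obtain ⟨w, hw, hw'⟩ := d.exists_w
    have hs : (P : G)⁻¹ * c.j v ∈ (d.S : Subgroup G) := mul_mem (inv_mem P.2) (d.jS hv)
    obtain ⟨u, hu, hu'⟩ := (d.mem _).1 hs
    have hu'' : ∀ h : G, h * c.t = c.t * h → ψ h = c.j u * h * (c.j u)⁻¹ := fun h hh => by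
      rw [hψH h hh]
      rcases hu' with e | e <;> rw [e]
      have hH : c.j u * h * (c.j u)⁻¹ * c.t = c.t * (c.j u * h * (c.j u)⁻¹) := by
        have c1 : Commute c.t (c.j u) := (c.jH u).symm
        have c2 : Commute c.t h := hh.symm
        exact ((c1.mul_right c2).mul_right c1.inv_right).eq.symm
      rw [show c.t * c.j u * h * (c.t * c.j u)⁻¹ = c.t * (c.j u * h * (c.j u)⁻¹) * c.t⁻¹ by group, ← hH,
        mul_inv_cancel_right]
    have u1 : u = 1 := by
      by_contra u1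
      have e : u * w * u⁻¹ = w := c.jinj (by
        rw [map_mul, map_mul, map_inv, ← hu'' _ (c.jH w), hNfix _ (d.w_norm hw)])
      have hfixu : w * u * w⁻¹ = u := by
        rw [mul_inv_eq_iff_eq_mul] at e
        rw [← e, mul_inv_cancel_right]
      exact d.w_fpf hw' hu u1 hfixu
    intro h hh
    rw [hu'' h hh, u1, map_one]; group
  have hlt : Subgroup.centralizer ({c.t} : Set G) < Fx := by
    refine lt_of_le_of_ne (fun x hx => htriv x (Subgroup.mem_centralizer_singleton_iff.1 hx)) fun e => ?_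
    obtain ⟨n, hn, hne⟩ := d.exists_mover hG
    have : n ∈ Subgroup.centralizer ({c.t} : Set G) := by rw [e]; exact hNfix n hn
    exact hne (mul_inv_eq_iff_eq_mul.2 (Subgroup.mem_centralizer_singleton_iff.1 this))
  intro x
  have hx : x ∈ Fx := (hmax.2 _ hlt) ▸ Subgroup.mem_top x
  have hx' : ψ x = x := hx
  rw [hψ] at hx'
  calc γ x = (P : G) * ((P : G)⁻¹ * γ x * P) * (P : G)⁻¹ := by group
    _ = (P : G) * x * (P : G)⁻¹ := by rw [hx']

end Data

end Cfg

end Cfsg.Agent.JankoRee
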